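import Mathlib
import Groth.Prelude
import Groth.Agent.Lib.Helper73.DimFormula.FiberStalkBC
import Groth.Agent.Lib.Helper73.DimFormula.RelMax
import Groth.Agent.Lib.Helper72.FibDim

/-!
# The fibre of a base change projection over a point (helper73)

For a pullback square `X' = X ×_S S'` (`h : X' ⟶ X`, `f' : X' ⟶ S'`) and `x' : X'`:

* `ringKrullDim_fiberStalk_eq_add_of_isPullback`:
  `dim O_{h⁻¹(h x'), x'} = dim O_{g⁻¹(g s'), s'} + krullDim {t | t ⤳ x', f' t = f' x', h t = h x'}`.
* `le_krullDim_relFiber`: if `f` is locally of finite type,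
  `trdeg κ(h x')/κ(f h x') ≤ krullDim {t | …} + trdeg κ(x')/κ(f' x')`.
-/

set_option autoImplicit false
universe u
open CategoryTheory CategoryTheory.Limits AlgebraicGeometry Opposite TopologicalSpace

namespace Groth.Agent.Lib.Helper73

section

variable {X S X' S' : Scheme.{u}} (f : X ⟶ S) (g : S' ⟶ S)
    (h : X' ⟶ X) (f' : X' ⟶ S') (hsq : IsPullback h f' f g)

include hsq in
theorem krullDim_fiber_fiberMap_eq (x' : X') :
    Order.krullDim ↥{t : h.fiber (h x') | t ⤳ h.asFiber x' ∧
        fiberMapOfIsPullback g f f' h hsq.flip (h x') t =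
          fiberMapOfIsPullback g f f' h hsq.flip (h x') (h.asFiber x')} =
      Order.krullDim ↥{t : X' | t ⤳ x' ∧ f' t = f' x' ∧ h t = h x'} := by
  set π := fiberMapOfIsPullback g f f' h hsq.flip (h x') with hπ
  have hcomm : ∀ w, g.fiberι (f (h x')) (π w) = f' (h.fiberι (h x') w) := by
    intro w
    have := congrArg (fun φ => φ w) (fiberMapOfIsPullback_fiberι g f f' h hsq.flip (h x'))
    simpa only [Scheme.Hom.comp_apply] using this
  symm
  refine krullDim_subtype_eq_of_monotone (fun w : h.fiber (h x') => h.fiberι (h x') w) ?_ _ _ ?_ ?_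
  · intro a a'
    change h.fiberι (h x') a' ⤳ h.fiberι (h x') a ↔ a' ⤳ a
    exact (h.fiberι (h x')).isEmbedding.isInducing.specializes_iff
  · rintro a ⟨ha1, ha2⟩
    refine ⟨?_, ?_, ?_⟩
    · have := ha1.map (h.fiberι (h x')).continuous
      rwa [h.fiberι_asFiber x'] at this
    · change f' (h.fiberι (h x') a) = f' x'
      rw [← hcomm, ha2, hcomm, h.fiberι_asFiber x']
    · have : h.fiberι (h x') a ∈ Set.range (h.fiberι (h x')) := ⟨_, rfl⟩
      rw [h.range_fiberι (h x')] at this
      exact this
  · rintro t ⟨ht1, ht2, ht3⟩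
    have : t ∈ Set.range (h.fiberι (h x')) := by
      rw [h.range_fiberι (h x')]; exact ht3
    obtain ⟨a, ha⟩ := this
    refine ⟨a, ⟨?_, ?_⟩, ha⟩
    · rw [← (h.fiberι (h x')).isEmbedding.isInducing.specializes_iff, ha, h.fiberι_asFiber x']
      exact ht1
    · apply (g.fiberι (f (h x'))).isEmbedding.injective
      rw [hcomm, hcomm, ha, h.fiberι_asFiber x', ht2]

include hsq in
/-- The local ring of the fibre of the projection `h` at `x'`: its dimension is that of the local
ring of the fibre of `g` at `f' x'` plus the Krull dimension of the poset of generizations of `x'`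
inside both fibres. -/
theorem ringKrullDim_fiberStalk_eq_add_of_isPullback [IsLocallyNoetherian X']
    [IsLocallyNoetherian S'] (x' : X') :
    ringKrullDim (CInt.fiberStalk h x') = ringKrullDim (CInt.fiberStalk g (f' x')) +
      Order.krullDim ↥{t : X' | t ⤳ x' ∧ f' t = f' x' ∧ h t = h x'} := by
  have e1 := krullDim_fiber_fiberMap_eq f g h f' hsq x'
  set π := fiberMapOfIsPullback g f f' h hsq.flip (h x') with hπ
  have hcomm : ∀ w, g.fiberι (f (h x')) (π w) = f' (h.fiberι (h x') w) := by
    intro w
    have := congrArg (fun φ => φ w) (fiberMapOfIsPullback_fiberι g f f' h hsq.flip (h x'))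
    simpa only [Scheme.Hom.comp_apply] using this
  have hflat : Flat π := flat_fiberMapOfIsPullback g f f' h hsq.flip (h x')
  set z := h.asFiber x' with hz
  haveI := isNoetherianRing_fiber_stalk h (h x') z
  haveI := isNoetherianRing_fiber_stalk g (f (h x')) (π z)
  have hfl : (π.stalkMap z).hom.Flat := Flat.stalkMap π z
  algebraize [(π.stalkMap z).hom]
  haveI : IsLocalHom (algebraMap ((g.fiber (f (h x'))).presheaf.stalk (π z))
      ((h.fiber (h x')).presheaf.stalk z)) := by
    rw [RingHom.algebraMap_toAlgebra]; infer_instance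
  have key := Groth.Agent.Lib.Helper67.ringKrullDim_eq_add_fibre_of_flat
    (R := (g.fiber (f (h x'))).presheaf.stalk (π z)) (S := (h.fiber (h x')).presheaf.stalk z)
  rw [RingHom.algebraMap_toAlgebra,
    Helper22.Miracle.ringKrullDim_stalk_quotient_map_maximalIdeal, e1,
    ringKrullDim_fiber_stalk_eq_fiberStalk g (f (h x')) (π z)] at key
  have h2 : g.fiberι (f (h x')) (π z) = f' x' := by rw [hcomm, h.fiberι_asFiber]
  rw [h2] at key
  exact key

end

section Chain

variable {X S X' S' : Scheme.{u}} (f : X ⟶ S) [LocallyOfFiniteType f] (g : S' ⟶ S)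
    (h : X' ⟶ X) (f' : X' ⟶ S') (hsq : IsPullback h f' f g)

include hsq in
/-- Inside both fibres through `x'` there is a chain of generizations of `x'` of length
`trdeg κ(h x')/κ(f h x') - trdeg κ(x')/κ(f' x')`. -/
theorem le_krullDim_relFiber (x' : X') :
    ((resTrdegNat f (h x') : ℕ) : WithBot ℕ∞) ≤
      Order.krullDim ↥{t : X' | t ⤳ x' ∧ f' t = f' x' ∧ h t = h x'} +
        ((resTrdegNat f' x' : ℕ) : WithBot ℕ∞) := by
  have hlft : LocallyOfFiniteType f' := locallyOfFiniteType_of_isPullback' f g h f' hsq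
  obtain ⟨τ, hτx', hf'τ, hhτ, hmax⟩ := exists_relMaximal_specializes f g h f' hsq x'
  have hτr := resTrdegNat_eq_of_isPullback_of_relMaximal f g h f' hsq τ hmax
  rw [hhτ] at hτr
  let π := f'.fiberToSpecResidueField (f' x')
  have hD : IsDimFun (trdegNat (k := S'.residueField (f' x')) π) :=
    isDimFun_trdegNat (k := S'.residueField (f' x')) π
  let z₀ := f'.asFiber x'
  have hτrange : τ ∈ Set.range (f'.fiberι (f' x')) := by
    rw [f'.range_fiberι (f' x')]; exact hf'τ
  obtain ⟨z₁, hz₁⟩ := hτrange
  have hz10 : z₁ ⤳ z₀ := by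
    rw [← (f'.fiberι (f' x')).isEmbedding.isInducing.specializes_iff, hz₁, f'.fiberι_asFiber x']
    exact hτx'
  obtain ⟨p, hp1, hp2, hp3⟩ := hD.exists_ltSeries hz10
  rw [trdegNat_fiber_eq_resTrdegNat, trdegNat_fiber_eq_resTrdegNat, hz₁, f'.fiberι_asFiber x',
    hτr] at hp3
  have hmono : StrictMono (f'.fiberι (f' x')) := by
    intro a b hab
    refine lt_of_le_not_ge (Specializes.map hab.le (f'.fiberι (f' x')).continuous) ?_
    intro hge
    exact (not_le_of_gt hab)
      ((f'.fiberι (f' x')).isEmbedding.isInducing.specializes_iff.mp hge)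
  set q := p.map (f'.fiberι (f' x')) hmono with hq
  have hqhead : q.head = x' := by
    rw [hq, LTSeries.head_map, hp1]; exact f'.fiberι_asFiber x'
  have hqlast : q.last = τ := by
    rw [hq, LTSeries.last_map, hp2]; exact hz₁
  have hmem : ∀ i, q i ∈ {t : X' | t ⤳ x' ∧ f' t = f' x' ∧ h t = h x'} := by
    intro i
    have h1 : q i ⤳ x' := by
      have : q.head ≤ q i := LTSeries.head_le q i
      rw [hqhead] at this
      exact this
    have h2 : τ ⤳ q i := by
      have : q i ≤ q.last := q.monotone (Fin.le_last i)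
      rw [hqlast] at this
      exact this
    refine ⟨h1, ?_, ?_⟩
    · have : q i ∈ Set.range (f'.fiberι (f' x')) := ⟨p i, rfl⟩
      rw [f'.range_fiberι (f' x')] at this
      exact this
    · have e1 : h (q i) ⤳ h x' := h1.map h.continuous
      have e2 : h x' ⤳ h (q i) := by
        have := h2.map h.continuous
        rwa [hhτ] at this
      exact (e1.antisymm e2).eq
  let Q : LTSeries ↥{t : X' | t ⤳ x' ∧ f' t = f' x' ∧ h t = h x'} :=
    LTSeries.mk q.length (fun i => ⟨q i, hmem i⟩) (fun i j hij => q.strictMono hij)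
  have hlen : Q.length + resTrdegNat f' x' = resTrdegNat f (h x') := by
    change q.length + _ = _
    rw [hq, LTSeries.map_length]
    exact hp3
  have hQ := Order.LTSeries.length_le_krullDim Q
  rw [← hlen]
  push_cast
  gcongr

end Chain

/-- If `x + y` is a natural number in `WithBot ℕ∞`, so are `x` and `y`. -/
lemma withBot_enat_add_eq_natCast {x y : WithBot ℕ∞} {e : ℕ} (h : x + y = (e : WithBot ℕ∞)) :
    ∃ m n : ℕ, x = (m : WithBot ℕ∞) ∧ y = (n : WithBot ℕ∞) ∧ m + n = e := by
  induction x using WithBot.recBotCoe with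
  | bot =>
    rw [WithBot.bot_add] at h
    exact absurd h.symm WithBot.coe_ne_bot
  | coe x =>
  induction y using WithBot.recBotCoe with
  | bot =>
    rw [WithBot.add_bot] at h
    exact absurd h.symm WithBot.coe_ne_bot
  | coe y =>
  have h' : x + y = (e : ℕ∞) := by
    have : ((x + y : ℕ∞) : WithBot ℕ∞) = ((e : ℕ∞) : WithBot ℕ∞) := h
    exact_mod_cast this
  induction x using ENat.recTopCoe with
  | top =>
    rw [top_add] at h'
    exact absurd h' (ENat.top_ne_coe e)
  | coe m =>
    induction y using ENat.recTopCoe with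
    | top =>
      rw [add_top] at h'
      exact absurd h' (ENat.top_ne_coe e)
    | coe n =>
      refine ⟨m, n, rfl, rfl, ?_⟩
      exact_mod_cast h'

end Groth.Agent.Lib.Helper73
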