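import Mathlib
import Groth.Prelude
import Groth.Agent.Lib.Helper67.CM

/-!
# Flat local homomorphisms out of a Cohen–Macaulay local ring (helper73)

* `comap_eq_of_mem_minimalPrimes_map`: for a flat algebra, the minimal primes over `pB` lie
  over `p`.
* `ringKrullDim_quotient_le_of_flat_of_CM`: if `A → B` is a flat local homomorphism of Noetherian
  local rings with `A` Cohen–Macaulay, `p` a prime of `A` and `P` a minimal prime over `pB`, then
  `dim A/p ≤ dim B/P`.
-/

set_option autoImplicit false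
universe u
open LocCoh RingTheory.Sequence IsLocalRing
open scoped Pointwise

namespace Groth.Agent.Lib.Helper73
open Groth.Agent.Lib.Helper67

/-- Going down: a minimal prime over `pB`, `B` flat over `A`, lies over `p`. -/
lemma comap_eq_of_mem_minimalPrimes_map {A B : Type*} [CommRing A] [CommRing B] [Algebra A B]
    [Module.Flat A B] (p : Ideal A) [p.IsPrime] (P : Ideal B)
    (hP : P ∈ (p.map (algebraMap A B)).minimalPrimes) :
    P.comap (algebraMap A B) = p := by
  haveI hPprime : P.IsPrime := hP.1.1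
  have hle : p ≤ P.comap (algebraMap A B) := Ideal.map_le_iff_le_comap.mp hP.1.2
  haveI : P.LiesOver (P.comap (algebraMap A B)) := ⟨rfl⟩
  obtain ⟨Q, hQP, hQprime, hQover⟩ :=
    Ideal.exists_ideal_le_liesOver_of_le (p := p) (q := P.comap (algebraMap A B)) P hle
  have hpQ : p.map (algebraMap A B) ≤ Q := by
    rw [Ideal.map_le_iff_le_comap]
    exact hQover.over.le
  have h1 : P ≤ Q := hP.2 ⟨hQprime, hpQ⟩ hQP
  have h2 : P = Q := le_antisymm h1 hQP
  rw [h2]
  exact hQover.over.symm

section KeyCM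

variable {A B : Type u} [CommRing A] [CommRing B] [IsLocalRing A] [IsLocalRing B]
    [IsNoetherianRing A] [IsNoetherianRing B] [Algebra A B] [IsLocalHom (algebraMap A B)]
    [Module.Flat A B]

omit [IsLocalRing A] [IsNoetherianRing A] in
lemma supportDim_quot_smul_top_self (p : Ideal A) :
    Module.supportDim A (A ⧸ p • (⊤ : Submodule A A)) = ringKrullDim (A ⧸ p) := by
  have h : (p • (⊤ : Submodule A A)) = p := by simp
  rw [Module.supportDim_eq_of_equiv (Submodule.quotEquivOfEq _ _ h)]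
  exact Module.supportDim_quotient_eq_ringKrullDim p

/-- **Key lemma.** For a flat local homomorphism `A → B` of Noetherian local rings with `A`
Cohen–Macaulay, a prime `p` of `A` and a minimal prime `P` over `pB`: `dim A/p ≤ dim B/P`. -/
theorem ringKrullDim_quotient_le_of_flat_of_CM (hA : IsCohenMacaulayModule A A)
    (p : Ideal A) [hp : p.IsPrime] (P : Ideal B)
    (hP : P ∈ (p.map (algebraMap A B)).minimalPrimes) :
    ringKrullDim (A ⧸ p) ≤ ringKrullDim (B ⧸ P) := by
  haveI hPprime : P.IsPrime := hP.1.1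
  have hpm : ∀ r ∈ p, r ∈ maximalIdeal A := fun r hr => le_maximalIdeal hp.ne_top hr
  -- a maximal regular sequence inside `p`
  obtain ⟨n, hn⟩ := ENat.ne_top_iff_exists.mp (idealDepth_ne_top_of_ne_top A hp.ne_top)
  rcases (le_idealDepth_iff p A n).mp hn.le with htop | ⟨rs₁, hlen₁, hreg₁, hmem₁⟩
  · exact absurd htop (prime_smul_top_ne_top A hp.ne_top)
  have hmem₁' : ∀ r ∈ rs₁, r ∈ maximalIdeal A := fun r hr => hpm r (hmem₁ r hr)
  have hM₁ := isCohenMacaulayModule_quot_ofList rs₁ A hA hmem₁' hreg₁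
  have hnt₁ := nontrivial_of_isCohenMacaulayModule hM₁
  have hdim₁ := (isWeaklyRegular_iff_supportDim_of_CM A hA rs₁ hmem₁').mp hreg₁
  have hdim₂ := supportDim_eq_add_idealDepth_of_CM A hA p hp.ne_top
  rw [supportDim_quot_smul_top_self, ← hn] at hdim₂
  obtain ⟨d₁, hd₁⟩ := supportDim_eq_natCast (R := A) (A ⧸ Ideal.ofList rs₁ • (⊤ : Submodule A A))
  obtain ⟨d, hd⟩ := supportDim_eq_natCast (R := A) A
  have hkne : ringKrullDim (A ⧸ p) ≠ ⊥ := by
    intro e
    rw [e, WithBot.bot_add, hd] at hdim₂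
    exact WithBot.coe_ne_bot hdim₂
  obtain ⟨k', hk'⟩ := WithBot.ne_bot_iff_exists.mp hkne
  have hk'top : k' ≠ ⊤ := by
    intro e
    rw [← hk', e, hd] at hdim₂
    have : ((d : ℕ∞) : WithBot ℕ∞) = ((⊤ + (n : ℕ∞) : ℕ∞) : WithBot ℕ∞) := by exact_mod_cast hdim₂
    rw [top_add] at this
    exact ENat.coe_ne_top d (by exact_mod_cast this)
  obtain ⟨k, hk⟩ := ENat.ne_top_iff_exists.mp hk'top
  have hkk : ringKrullDim (A ⧸ p) = (k : WithBot ℕ∞) := by rw [← hk', ← hk]; rfl
  rw [hd₁, hd, hlen₁] at hdim₁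
  rw [hd, hkk] at hdim₂
  have e1 : d₁ + n = d := by exact_mod_cast hdim₁
  have e2 : d = k + n := by exact_mod_cast hdim₂
  have e3 : d₁ = k := by omega
  -- depth of `M₁`
  have hdepth₁ : depth A (A ⧸ Ideal.ofList rs₁ • (⊤ : Submodule A A)) = k := by
    have := hM₁
    unfold IsCohenMacaulayModule at this
    rw [hd₁, e3] at this
    exact_mod_cast this.symm
  obtain ⟨rs₂, hlen₂, hreg₂, hmem₂⟩ := exists_isRegular_of_le_depth
    (A ⧸ Ideal.ofList rs₁ • (⊤ : Submodule A A)) k hdepth₁.ge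
  -- `p` is minimal over `(rs₁)`
  have hann : Module.annihilator A (A ⧸ Ideal.ofList rs₁ • (⊤ : Submodule A A)) =
      Ideal.ofList rs₁ := by
    have h : (Ideal.ofList rs₁ • (⊤ : Submodule A A)) = Ideal.ofList rs₁ := by simp
    rw [(Submodule.quotEquivOfEq _ _ h).annihilator_eq]
    exact Ideal.annihilator_quotient
  have hrs₁p : Ideal.ofList rs₁ ≤ p := by
    rw [Ideal.ofList, Ideal.span_le]
    intro r hr
    exact hmem₁ r hr
  have hpmin : ∀ q : Ideal A, q.IsPrime → Ideal.ofList rs₁ ≤ q → q ≤ p → q = p := by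
    intro q hq hq1 hq2
    by_contra hne
    have hlt : q < p := lt_of_le_of_ne hq2 hne
    have h1 := ringKrullDim_quotient_succ_le_of_lt hlt
    have h2 : ringKrullDim (A ⧸ q) ≤ Module.supportDim A
        (A ⧸ Ideal.ofList rs₁ • (⊤ : Submodule A A)) :=
      ringKrullDim_quotient_le_supportDim (by rw [hann]; exact hq1)
    rw [hd₁, e3] at h2
    rw [hkk] at h1
    have h3 : ((k : WithBot ℕ∞)) + 1 ≤ (k : WithBot ℕ∞) := h1.trans h2
    have : (k + 1 : ℕ) ≤ k := by exact_mod_cast h3
    omega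
  -- the concatenated sequence is weakly regular on `A`, hence on `B`
  have hreg : IsWeaklyRegular A (rs₁ ++ rs₂) :=
    (isWeaklyRegular_append_iff A rs₁ rs₂).mpr ⟨hreg₁, hreg₂.1⟩
  have hregB : IsWeaklyRegular B ((rs₁ ++ rs₂).map (algebraMap A B)) := hreg.of_flat
  rw [List.map_append, isWeaklyRegular_append_iff] at hregB
  obtain ⟨hregB₁, hregB₂⟩ := hregB
  set J : Ideal B := Ideal.ofList (rs₁.map (algebraMap A B)) with hJ
  have hJmap : J = (Ideal.ofList rs₁).map (algebraMap A B) := (Ideal.map_ofList _ _).symm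
  have hJP : J ≤ P := by
    rw [hJmap]
    exact (Ideal.map_mono hrs₁p).trans hP.1.2
  have hmemB : ∀ r ∈ rs₂.map (algebraMap A B), r ∈ maximalIdeal B := by
    intro r hr
    obtain ⟨a, ha, rfl⟩ := List.mem_map.mp hr
    have := hmem₂ a ha
    rw [mem_maximalIdeal, mem_nonunits_iff] at this ⊢
    exact fun hu => this (isUnit_of_map_unit (algebraMap A B) a hu)
  have hdepthB : (k : ℕ∞) ≤ depth B (B ⧸ J • (⊤ : Submodule B B)) := by
    have := length_le_idealDepth (maximalIdeal B) (B ⧸ J • (⊤ : Submodule B B)) _ hregB₂ hmemB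
    rwa [List.length_map, hlen₂] at this
  have hannB : Module.annihilator B (B ⧸ J • (⊤ : Submodule B B)) = J := by
    have h : (J • (⊤ : Submodule B B)) = J := by simp
    rw [(Submodule.quotEquivOfEq _ _ h).annihilator_eq]
    exact Ideal.annihilator_quotient
  have hPmin : P ∈ J.minimalPrimes := by
    refine ⟨⟨hPprime, hJP⟩, ?_⟩
    rintro Q ⟨hQprime, hJQ⟩ hQP
    have hcomapP := comap_eq_of_mem_minimalPrimes_map p P hP
    have hq : Q.comap (algebraMap A B) = p := by
      apply hpmin _ (Ideal.comap_isPrime _ _)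
      · rw [← Ideal.map_le_iff_le_comap, ← hJmap]
        exact hJQ
      · rw [← hcomapP]
        exact Ideal.comap_mono hQP
    have : p.map (algebraMap A B) ≤ Q := by rw [Ideal.map_le_iff_le_comap, hq]
    exact hP.2 ⟨hQprime, this⟩ hQP
  have hPass : P ∈ associatedPrimes B (B ⧸ J • (⊤ : Submodule B B)) := by
    apply Module.associatedPrimes.minimalPrimes_annihilator_subset_associatedPrimes
    rw [hannB]
    exact hPmin
  have h5 := depth_le_ringKrullDim_quotient_of_mem_associatedPrimes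
    (B ⧸ J • (⊤ : Submodule B B)) hPass
  rw [hkk]
  calc (k : WithBot ℕ∞) ≤ ((depth B (B ⧸ J • (⊤ : Submodule B B)) : ℕ∞) : WithBot ℕ∞) := by
        exact_mod_cast hdepthB
    _ ≤ _ := h5

end KeyCM

end Groth.Agent.Lib.Helper73
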