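import Mathlib
import Groth.Prelude
import Groth.Agent.Lib.Helper73.FFDelta.KeyCM
import Groth.Agent.Lib.Helper73.DimFormula.CatenaryLocal

/-!
# Relative codimension under a flat homomorphism out of a Cohen–Macaulay ring (helper73)

* `height_Ici_eq_krullDim_Icc`: the height of `q` in `Set.Ici p` is `krullDim [p, q]`.
* `ringKrullDim_localization_quotient_eq_krullDim_Icc`: `dim R_q/pR_q = krullDim [p, q]`.
* `krullDim_Icc_le_of_flat_of_CM`: for `A → A'` flat, `A` Cohen–Macaulay, `q = q' ∩ A`, `p ≤ q`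
  and `P ≤ q'` minimal over `pA'`: `krullDim [p, q] ≤ krullDim [P, q']`.
* `relCodim_le_add_of_flat_of_CM`: `c_I(s) ≤ c_{I'}(s') + dim O_{g⁻¹(s), s'}` when moreover `A'` is
  catenary.
-/

set_option autoImplicit false
universe u
open LocCoh IsLocalRing

namespace Groth.Agent.Lib.Helper73
open Groth.Agent.Lib.Helper67 Groth.Agent.Lib.Helper70

/-- The height of `q` in `Set.Ici p` is the Krull dimension of the interval `[p, q]`. -/
lemma height_Ici_eq_krullDim_Icc {P : Type*} [Preorder P] (p q : P) (hpq : p ≤ q) :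
    ((Order.height (⟨q, hpq⟩ : Set.Ici p) : ℕ∞) : WithBot ℕ∞) = Order.krullDim (Set.Icc p q) := by
  rw [Order.height_eq_krullDim_Iic]
  let e : Set.Iic (⟨q, hpq⟩ : Set.Ici p) ≃o Set.Icc p q :=
    { toFun := fun t => ⟨t.1.1, t.1.2, t.2⟩
      invFun := fun t => ⟨⟨t.1, t.2.1⟩, t.2.2⟩
      left_inv := fun t => rfl
      right_inv := fun t => rfl
      map_rel_iff' := Iff.rfl }
  exact Order.krullDim_eq_of_orderIso e

/-- `dim R_q/pR_q` is the Krull dimension of the interval `[p, q]` of the spectrum. -/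
theorem ringKrullDim_localization_quotient_eq_krullDim_Icc {R : Type*} [CommRing R]
    (p q : PrimeSpectrum R) (hpq : p ≤ q) :
    ringKrullDim (Localization.AtPrime q.asIdeal ⧸
      p.asIdeal.map (algebraMap R (Localization.AtPrime q.asIdeal))) =
      Order.krullDim (Set.Icc p q) := by
  set S := Localization.AtPrime q.asIdeal with hS
  have hdisj : ∀ t : PrimeSpectrum R, t ≤ q → Disjoint (q.asIdeal.primeCompl : Set R) t.asIdeal := by
    intro t ht
    rw [Set.disjoint_left]
    intro x hx hxp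
    exact hx (ht hxp)
  have hpt : (p.asIdeal.map (algebraMap R S)).IsPrime :=
    IsLocalization.isPrime_of_isPrime_disjoint q.asIdeal.primeCompl S _ p.2 (hdisj p hpq)
  let pt : PrimeSpectrum S := ⟨_, hpt⟩
  have h1 := ringKrullDim_quotient_eq_krullDim_Icc S pt
  change ringKrullDim (S ⧸ pt.asIdeal) = _
  rw [h1]
  let e : PrimeSpectrum S → PrimeSpectrum R := PrimeSpectrum.comap (algebraMap R S)
  have he : ∀ a a', e a ≤ e a' ↔ a ≤ a' := by
    intro a a'
    constructor
    · intro h
      have h' : a.asIdeal.under R ≤ a'.asIdeal.under R := h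
      have := Ideal.map_mono (f := algebraMap R S) h'
      rwa [IsLocalization.map_under q.asIdeal.primeCompl S,
        IsLocalization.map_under q.asIdeal.primeCompl S] at this
    · intro h
      exact Ideal.comap_mono h
  have hea : e pt = p := PrimeSpectrum.ext
    (IsLocalization.under_map_of_isPrime_disjoint q.asIdeal.primeCompl S p.2 (hdisj p hpq))
  have heb : e (closedPoint S) = q := PrimeSpectrum.ext
    (IsLocalization.AtPrime.under_maximalIdeal S q.asIdeal)
  have key := krullDim_Icc_eq_of_monotone e he pt (closedPoint S) (by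
    intro t _ h2
    rw [heb] at h2
    exact ⟨⟨t.asIdeal.map (algebraMap R S),
      IsLocalization.isPrime_of_isPrime_disjoint _ S _ t.2 (hdisj t h2)⟩,
      PrimeSpectrum.ext (IsLocalization.under_map_of_isPrime_disjoint _ S t.2 (hdisj t h2))⟩)
  rw [hea, heb] at key
  exact key.symm

/-- For `A → A'` flat with `A` Cohen–Macaulay, `q = q' ∩ A`, a prime `p ≤ q` and a prime `P ≤ q'`
minimal over `pA'`: `krullDim [p, q] ≤ krullDim [P, q']`. -/
theorem krullDim_Icc_le_of_flat_of_CM {A A' : Type u} [CommRing A] [CommRing A']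
    [IsNoetherianRing A] [IsNoetherianRing A'] [Algebra A A'] [Module.Flat A A']
    (hcm : LocCoh.IsCohenMacaulayRing A)
    (q' : PrimeSpectrum A') (p : PrimeSpectrum A) (P : PrimeSpectrum A')
    (hpq : p ≤ PrimeSpectrum.comap (algebraMap A A') q') (hPq' : P ≤ q')
    (hP : P.asIdeal ∈ (p.asIdeal.map (algebraMap A A')).minimalPrimes) :
    Order.krullDim (Set.Icc p (PrimeSpectrum.comap (algebraMap A A') q')) ≤
      Order.krullDim (Set.Icc P q') := by
  set q := PrimeSpectrum.comap (algebraMap A A') q' with hq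
  rw [← ringKrullDim_localization_quotient_eq_krullDim_Icc p q hpq,
    ← ringKrullDim_localization_quotient_eq_krullDim_Icc P q' hPq']
  let R := Localization.AtPrime q.asIdeal
  let R' := Localization.AtPrime q'.asIdeal
  let φ : R →+* R' := Localization.localRingHom q.asIdeal q'.asIdeal (algebraMap A A') rfl
  letI : Algebra R R' := φ.toAlgebra
  haveI : IsLocalHom (algebraMap R R') :=
    Localization.isLocalHom_localRingHom q.asIdeal q'.asIdeal (algebraMap A A') rfl
  haveI : Module.Flat R R' := by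
    have : φ.Flat := RingHom.Flat.localRingHom
      (RingHom.flat_algebraMap_iff.2 inferInstance) q'.asIdeal q.asIdeal rfl
    exact this
  have hCM := hcm.isCohenMacaulayLocalRing_localization q.asIdeal
  have hA : IsCohenMacaulayModule R R := hCM.supportDim_eq_depth
  have hcomp : φ.comp (algebraMap A R) = (algebraMap A' R').comp (algebraMap A A') := by
    ext x
    exact Localization.localRingHom_to_map _ _ _ rfl x
  have hmap : (p.asIdeal.map (algebraMap A R)).map (algebraMap R R') =
      (p.asIdeal.map (algebraMap A A')).map (algebraMap A' R') := by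
    rw [Ideal.map_map, Ideal.map_map]
    exact congrArg (fun f => Ideal.map f p.asIdeal) hcomp
  have hdisj : Disjoint (q'.asIdeal.primeCompl : Set A') P.asIdeal := by
    rw [Set.disjoint_left]
    intro x hx hxp
    exact hx (hPq' hxp)
  have hdisj' : Disjoint (q.asIdeal.primeCompl : Set A) p.asIdeal := by
    rw [Set.disjoint_left]
    intro x hx hxp
    exact hx (hpq hxp)
  have hmin : P.asIdeal.map (algebraMap A' R') ∈
      ((p.asIdeal.map (algebraMap A R)).map (algebraMap R R')).minimalPrimes := by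
    rw [hmap, IsLocalization.minimalPrimes_map q'.asIdeal.primeCompl R']
    change (P.asIdeal.map (algebraMap A' R')).under A' ∈
      (p.asIdeal.map (algebraMap A A')).minimalPrimes
    rw [IsLocalization.under_map_of_isPrime_disjoint q'.asIdeal.primeCompl R' P.2 hdisj]
    exact hP
  haveI : (p.asIdeal.map (algebraMap A R)).IsPrime :=
    IsLocalization.isPrime_of_isPrime_disjoint q.asIdeal.primeCompl R _ p.2 hdisj'
  exact ringKrullDim_quotient_le_of_flat_of_CM hA _ _ hmin

/-- For `A → A'` flat, `A` Cohen–Macaulay, `A'` catenary, `V(I')` mapping into `V(I)`, and a prime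
`s'` of `A'` over `s`: `c_I(s) ≤ c_{I'}(s') + dim O_{g⁻¹(s), s'}`, the last term written as the
Krull dimension of the poset of generizations of `s'` inside its fibre. -/
theorem relCodim_le_add_of_flat_of_CM {A A' : Type u} [CommRing A] [CommRing A']
    [IsNoetherianRing A] [IsNoetherianRing A'] [Algebra A A'] [Module.Flat A A']
    (hcm : LocCoh.IsCohenMacaulayRing A) (hcat' : CAlg.IsCatenary A')
    (I : Ideal A) (I' : Ideal A')
    (hTT : ∀ q : PrimeSpectrum A', I' ≤ q.asIdeal → I ≤ q.asIdeal.comap (algebraMap A A'))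
    (s' : PrimeSpectrum A') (b : ℕ) (hb : SGA2.relCodim I' s' = b) :
    ((SGA2.relCodim I (PrimeSpectrum.comap (algebraMap A A') s') : ℕ∞) : WithBot ℕ∞) ≤
      (b : WithBot ℕ∞) + Order.krullDim ↥{t : PrimeSpectrum A' | t ≤ s' ∧
        PrimeSpectrum.comap (algebraMap A A') t = PrimeSpectrum.comap (algebraMap A A') s'} := by
  set s := PrimeSpectrum.comap (algebraMap A A') s' with hs
  have hne : Nonempty {q : PrimeSpectrum A' // s' ≤ q ∧ I' ≤ q.asIdeal} := by
    by_contra hempty
    rw [not_nonempty_iff] at hempty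
    unfold SGA2.relCodim at hb
    rw [iInf_of_empty] at hb
    exact ENat.top_ne_coe b hb
  obtain ⟨⟨q', hsq', hIq'⟩, hq'b⟩ : ∃ q : {q : PrimeSpectrum A' // s' ≤ q ∧ I' ≤ q.asIdeal},
      Order.height (⟨q.1, q.2.1⟩ : Set.Ici s') = b := by
    obtain ⟨q, hq⟩ := ENat.exists_eq_iInf
      (fun q : {q : PrimeSpectrum A' // s' ≤ q ∧ I' ≤ q.asIdeal} =>
        Order.height (⟨q.1, q.2.1⟩ : Set.Ici s'))
    exact ⟨q, hq.trans hb⟩
  set q := PrimeSpectrum.comap (algebraMap A A') q' with hq
  have hsq : s ≤ q := Ideal.comap_mono hsq'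
  have hIq : I ≤ q.asIdeal := hTT q' hIq'
  have h2 : SGA2.relCodim I s ≤ Order.height (⟨q, hsq⟩ : Set.Ici s) :=
    iInf_le (fun q : {q : PrimeSpectrum A // s ≤ q ∧ I ≤ q.asIdeal} =>
      Order.height (⟨q.1, q.2.1⟩ : Set.Ici s)) ⟨q, hsq, hIq⟩
  obtain ⟨P0, hP0, hP0s'⟩ := Ideal.exists_minimalPrimes_le
    (I := s.asIdeal.map (algebraMap A A')) (J := s'.asIdeal)
    (Ideal.map_le_iff_le_comap.mpr le_rfl)
  let P : PrimeSpectrum A' := ⟨P0, hP0.1.1⟩
  have hPs' : P ≤ s' := hP0s'
  have hPcomap : PrimeSpectrum.comap (algebraMap A A') P = s :=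
    PrimeSpectrum.ext (comap_eq_of_mem_minimalPrimes_map s.asIdeal P0 hP0)
  have h5 := krullDim_Icc_le_of_flat_of_CM hcm q' s P hsq (hPs'.trans hsq') hP0
  have h6 := PosetCat.krullDim_Icc_add (hcat' : PosetCat (PrimeSpectrum A'))
    (a := P) (b := s') (c := q') hPs' hsq'
  have h7 := height_Ici_eq_krullDim_Icc s' q' hsq'
  rw [hq'b] at h7
  have h8 : Order.krullDim (Set.Icc P s') ≤ Order.krullDim ↥{t : PrimeSpectrum A' | t ≤ s' ∧
      PrimeSpectrum.comap (algebraMap A A') t = s} := by
    refine Order.krullDim_le_of_strictMono (fun t => ⟨t.1, t.2.2, ?_⟩) (fun a b hab => hab)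
    apply le_antisymm
    · exact Ideal.comap_mono t.2.2
    · rw [← hPcomap]
      exact Ideal.comap_mono t.2.1
  calc ((SGA2.relCodim I s : ℕ∞) : WithBot ℕ∞)
      ≤ ((Order.height (⟨q, hsq⟩ : Set.Ici s) : ℕ∞) : WithBot ℕ∞) := by exact_mod_cast h2
    _ = Order.krullDim (Set.Icc s q) := height_Ici_eq_krullDim_Icc s q hsq
    _ ≤ Order.krullDim (Set.Icc P q') := h5
    _ = Order.krullDim (Set.Icc P s') + Order.krullDim (Set.Icc s' q') := h6
    _ = Order.krullDim (Set.Icc P s') + (b : WithBot ℕ∞) := by rw [← h7]; rfl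
    _ ≤ _ := by rw [add_comm]; gcongr

end Groth.Agent.Lib.Helper73
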