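import Mathlib
import Groth.Prelude
import Groth.Agent.Lib.Helper73.FFDelta.RelCodim
import Groth.Agent.Lib.Helper73.FFDelta.FibreDim

/-!
# `δ_T(x) - δ_{T'}(x') ≤ dim h_{x'}⁻¹(x)` under a flat base change out of a Cohen–Macaulay ring
(helper73)
-/

set_option autoImplicit false
universe u
open CategoryTheory CategoryTheory.Limits AlgebraicGeometry Opposite

namespace Groth.Agent.Lib.Helper73

theorem deltaT_le_add_fibreDim_core (A A' : Type u) [CommRing A] [CommRing A'] [IsNoetherianRing A]
    [IsNoetherianRing A'] (hcm : LocCoh.IsCohenMacaulayRing A) (hcat' : CAlg.IsCatenary A')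
    [Algebra A A'] [Module.Flat A A'] (I : Ideal A) (I' : Ideal A')
    (hTT : ∀ q : PrimeSpectrum A', I' ≤ q.asIdeal → I ≤ q.asIdeal.comap (algebraMap A A'))
    (X X' : Scheme.{u}) (f : X ⟶ (Spec (CommRingCat.of A))) [LocallyOfFiniteType f]
    (h : X' ⟶ X) (f' : X' ⟶ Spec (CommRingCat.of A'))
    (hsq : IsPullback h f' f (Spec.map (CommRingCat.ofHom (algebraMap A A'))))
    (x' : X') (r r' a b e : ℕ) (hr : resTrdeg f (h x') = r) (hr' : resTrdeg f' x' = r')
    (ha : SGA2.relCodim I (f (h x')) = a) (hb : SGA2.relCodim I' (f' x') = b)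
    (he : ringKrullDim (CInt.fiberStalk h x') = (e : WithBot ℕ∞)) : r + a ≤ r' + b + e := by
  set g := Spec.map (CommRingCat.ofHom (algebraMap A A')) with hg
  have hlft : LocallyOfFiniteType f' := locallyOfFiniteType_of_isPullback' f g h f' hsq
  haveI : IsLocallyNoetherian X' := LocallyOfFiniteType.isLocallyNoetherian f'
  have hrN : resTrdegNat f (h x') = r := by
    unfold resTrdegNat
    rw [hr]
    simp
  have hrN' : resTrdegNat f' x' = r' := by
    unfold resTrdegNat
    rw [hr']
    simp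
  have E1 := ringKrullDim_fiberStalk_eq_add_of_isPullback f g h f' hsq x'
  have E2 := le_krullDim_relFiber f g h f' hsq x'
  rw [hrN, hrN'] at E2
  rw [he] at E1
  have E0 : ringKrullDim (CInt.fiberStalk g (f' x')) =
      Order.krullDim ↥{t : ↥(Spec (CommRingCat.of A')) | t ⤳ f' x' ∧ g t = g (f' x')} :=
    ringKrullDim_fiber_stalk_eq_krullDim g (f' x')
  rw [E0] at E1
  -- the algebraic inequality
  let s' : PrimeSpectrum A' := f' x'
  have E3 := relCodim_le_add_of_flat_of_CM hcm hcat' I I' hTT s' b hb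
  have hfs : f (h x') = PrimeSpectrum.comap (algebraMap A A') s' := by
    have := congrArg (fun φ => φ x') hsq.w
    simp only [Scheme.Hom.comp_apply] at this
    rw [this]
    rfl
  have ha' : SGA2.relCodim I (PrimeSpectrum.comap (algebraMap A A') s') = a := by
    rw [← hfs]; exact ha
  rw [ha'] at E3
  have E4 : Order.krullDim ↥{t : PrimeSpectrum A' | t ≤ s' ∧
        PrimeSpectrum.comap (algebraMap A A') t = PrimeSpectrum.comap (algebraMap A A') s'} =
      Order.krullDim ↥{t : ↥(Spec (CommRingCat.of A')) | t ⤳ f' x' ∧ g t = g (f' x')} := by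
    refine krullDim_subtype_eq_of_antitone (α := ↥(Spec (CommRingCat.of A')))
      (β := PrimeSpectrum A') (fun t => t) ?_ _ _ ?_ ?_
    · intro a a'
      exact PrimeSpectrum.le_iff_specializes (R := A') a a'
    · rintro t ⟨ht1, ht2⟩
      exact ⟨(PrimeSpectrum.le_iff_specializes _ _).mpr ht1, ht2⟩
    · rintro t ⟨ht1, ht2⟩
      exact ⟨t, ⟨(PrimeSpectrum.le_iff_specializes _ _).mp ht1, ht2⟩, rfl⟩
  rw [E4] at E3
  -- arithmetic
  obtain ⟨m, n, hm, hn, hmn⟩ := withBot_enat_add_eq_natCast E1.symm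
  rw [hm] at E3
  rw [hn] at E2
  have E2' : r ≤ n + r' := by exact_mod_cast E2
  have E3' : a ≤ b + m := by exact_mod_cast E3
  omega


end Groth.Agent.Lib.Helper73
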